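import Mathlib
import Cfsg.Agent.H170.EP.Torus
import Cfsg.Agent.H501.RowOmega
import Cfsg.Agent.H892.EP.Defs
import Cfsg.Agent.H809.Evn.Cyc
import Cfsg.Agent.S0292
import Cfsg.Agent.S0293

/-!
# TEAM EVP (S4929): `rest_oodd`, `rest_oplus` (helper170)

Orthogonal groups in odd characteristic, `p` odd, `p ∤ q`, `p ∤ q ^ i - 1` for `i ≤ m` (`m` the Witt index): the Sylow
`p`-subgroups are cyclic and there is a real element of order `p`.
-/

set_option autoImplicit false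

namespace Cfsg.Agent.H170.EP

open Module

section count

variable {F : Type*} [Field F] [Finite F] {V : Type*} [AddCommGroup V] [Module F V] [FiniteDimensional F V]

/-- counting the vectors moved by an element of order `p` -/
theorem dvd_of_fix {p : ℕ} [hp : Fact p.Prime] (hpF : ¬ p ∣ Nat.card F) {g : Module.End F V} (hg : g ^ p = 1) :
    p ∣ Nat.card F ^ (finrank F V - finrank F (LinearMap.ker (g - 1))) - 1 := by
  classical
  have hV : Finite V := Module.finite_of_finite F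
  have := Fintype.ofFinite V
  let f : Function.End V := fun v => g v
  have hf : f ^ p ^ 1 = 1 := by
    have h1 : ∀ k : ℕ, ∀ v, (f ^ k) v = (g ^ k) v := by
      intro k
      induction k with
      | zero => intro v; rfl
      | succ k ih =>
        intro v
        rw [pow_succ', pow_succ']
        show f ((f ^ k) v) = g ((g ^ k) v)
        rw [ih]
    funext v
    rw [pow_one, h1, hg]
    rfl
  have h1 := Equiv.Perm.card_fixedPoints_modEq hf
  have h2 : Fintype.card (Function.fixedPoints f) = Nat.card F ^ finrank F (LinearMap.ker (g - 1)) := by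
    rw [← Nat.card_eq_fintype_card, ← Module.natCard_eq_pow_finrank (K := F) (V := LinearMap.ker (g - 1))]
    refine Nat.card_congr (Equiv.subtypeEquivRight fun v => ?_)
    rw [LinearMap.mem_ker, LinearMap.sub_apply, sub_eq_zero]
    exact Iff.rfl
  rw [h2, ← Nat.card_eq_fintype_card, Module.natCard_eq_pow_finrank (K := F) (V := V)] at h1
  obtain ⟨w, hw⟩ : ∃ w, w = finrank F (LinearMap.ker (g - 1)) := ⟨_, rfl⟩
  have hle : w ≤ finrank F V := hw ▸ Submodule.finrank_le _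
  rw [← hw] at h1 ⊢
  have h3 : Nat.card F ^ w * Nat.card F ^ (finrank F V - w) ≡ Nat.card F ^ w * 1 [MOD p] := by
    rw [← pow_add, Nat.add_sub_cancel' hle, mul_one]
    exact h1
  have h4 : Nat.gcd p (Nat.card F ^ w) = 1 := (((Nat.Prime.coprime_iff_not_dvd hp.out).2 hpF).pow_right w)
  have h5 := Nat.ModEq.cancel_left_of_coprime h4 h3
  exact (Nat.modEq_iff_dvd' (Nat.one_le_pow _ _ Nat.card_pos)).1 h5.symm

variable {m p : ℕ} [hp : Fact p.Prime] (hpF : ¬ p ∣ Nat.card F)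
  (h : ∀ i, 0 < i → i ≤ m → ¬ p ∣ Nat.card F ^ i - 1)

include hpF h

theorem lt_of_ne_one {g : Module.End F V} (hg : g ^ p = 1) (h1 : g ≠ 1) :
    m < finrank F V - finrank F (LinearMap.ker (g - 1)) := by
  by_contra hcon
  push Not at hcon
  refine h _ ?_ hcon (dvd_of_fix hpF hg)
  by_contra h0
  have h2 : finrank F V ≤ finrank F (LinearMap.ker (g - 1)) := by omega
  apply h1
  have h3 : LinearMap.ker (g - 1) = ⊤ := Submodule.eq_top_of_finrank_eq (le_antisymm (Submodule.finrank_le _) h2)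
  rw [LinearMap.ker_eq_top, sub_eq_zero] at h3
  exact h3

/-- two commuting elements -/
theorem two_of_comm {a b : Module.End F V} (hab : a * b = b * a) (ha : a ^ p = 1) (hb : b ^ p = 1) (ha1 : a ≠ 1) {v : V}
    (hav : a v = v) (hbv : b v ≠ v) : 2 * m + 2 ≤ finrank F V := by
  have h1 := lt_of_ne_one hpF h ha ha1
  let W := LinearMap.ker (a - 1)
  have hmem : ∀ w, w ∈ W ↔ a w = w := by
    intro w
    show w ∈ LinearMap.ker (a - 1) ↔ _
    rw [LinearMap.mem_ker, LinearMap.sub_apply, sub_eq_zero]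
    rfl
  have hW : ∀ w ∈ W, b w ∈ W := by
    intro w hw
    rw [hmem] at hw ⊢
    have : a (b w) = b (a w) := LinearMap.congr_fun hab w
    rw [this, hw]
  let b' : Module.End F W := b.restrict hW
  have hb' : ∀ k : ℕ, ∀ w : W, (((b' ^ k) w : W) : V) = (b ^ k) w := by
    intro k
    induction k with
    | zero => intro w; rfl
    | succ k ih =>
      intro w
      rw [pow_succ', pow_succ']
      show b (((b' ^ k) w : W) : V) = b ((b ^ k) w)
      rw [ih]
  have hbp : b' ^ p = 1 := by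
    apply LinearMap.ext
    intro w
    apply Subtype.ext
    rw [hb', hb]
    rfl
  have hb1 : b' ≠ 1 := by
    intro h0
    have h3 := congrArg (Subtype.val) (LinearMap.congr_fun h0 ⟨v, (hmem v).2 hav⟩)
    exact hbv h3
  have h3 := lt_of_ne_one hpF h hbp hb1
  have h4 : finrank F W ≤ finrank F V := Submodule.finrank_le _
  have h5 : finrank F W = finrank F (LinearMap.ker (a - 1)) := rfl
  omega

end count

/-! ### Arithmetic -/

theorem not_even_of {p q m d i : ℕ} (h : ∀ i, 0 < i → i ≤ m → ¬ p ∣ q ^ i - 1)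
    (hd : 0 < d) (h1 : p ∣ q ^ d - 1) (h2 : p ∣ q ^ i - 1) : m < Nat.gcd d i ∧ p ∣ q ^ Nat.gcd d i - 1 := by
  have h3 : p ∣ q ^ Nat.gcd d i - 1 := by
    rw [← Nat.pow_sub_one_gcd_pow_sub_one]
    exact Nat.dvd_gcd h1 h2
  refine ⟨?_, h3⟩
  by_contra hcon
  push Not at hcon
  exact h _ (Nat.gcd_pos_of_pos_left _ hd) hcon h3

/-! ### Orthogonal groups -/

section Orth

open QuadraticMap Matrix
open Cfsg.Agent.LieClassical.OrthCore Cfsg.Agent.LieClassical.OrthFinite Cfsg.Agent.LieClassical.OrthForms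
  Cfsg.Agent.H160.QSpin Cfsg.Agent.H160.QSplit Cfsg.Agent.H722.RealP

variable {F : Type*} [Field F] [Fintype F] [DecidableEq F] {ι : Type} [Fintype ι] [DecidableEq ι]

omit [DecidableEq F] in
/-- the linear maps of the elements of `Omega` -/
theorem exists_omega (h2 : (2 : F) ≠ 0) {Q : QuadraticForm F (ι → F)} (hQ : Nondeg Q) (hd : 5 ≤ Fintype.card ι) :
    ∃ f : Cfsg.Omega F ⇑Q →* ((ι → F) ≃ₗ[F] (ι → F)), Function.Injective f ∧ ∀ g, El Q 1 g → ∃ x, f x = g := by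
  have hG := good_of_finite hQ (by rwa [finrank_fintype_fun_eq_card])
  refine ⟨(⁅O Q, O Q⁆ : Subgroup ((ι → F) ≃ₗ[F] (ι → F))).subtype.comp (omegaEquiv Q).toMonoidHom,
    (Subgroup.subtype_injective _).comp (omegaEquiv Q).injective, ?_⟩
  rintro g ⟨hO, h4, h5⟩
  have h3 : g ∈ E Q := (Cfsg.Agent.FooteOrth.mem_E_iff hG h2 hO).2 ⟨h4, by rw [← spin_eq_sg, h5]⟩
  rw [← hG.commutator_eq_E] at h3
  refine ⟨(omegaEquiv Q).symm ⟨g, h3⟩, ?_⟩
  show ((omegaEquiv Q ((omegaEquiv Q).symm ⟨g, h3⟩) : (⁅O Q, O Q⁆ : Subgroup _)) : (ι → F) ≃ₗ[F] (ι → F)) = g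
  rw [MulEquiv.apply_symm_apply]

/-- a real element of order `p`, `p ∣ q ^ d + 1`, in dimension `2 d + 1` -/
theorem real_of_model (h2 : (2 : F) ≠ 0) {Q : QuadraticForm F (ι → F)} (hQ : Nondeg Q) {d : ℕ} (hd : 2 ≤ d)
    (hn : Fintype.card ι = 2 * d + 1) {p : ℕ} (hp : p.Prime) (hp2 : p ≠ 2) (hpd : p ∣ Fintype.card F ^ d + 1) :
    HasReal p (Cfsg.Omega F ⇑Q) := by
  have : Finite (Cfsg.isometryGroup F ⇑Q) := Subtype.finite
  obtain ⟨g, s, hs, hg, hsg, hord⟩ := exists_model h2 (d := d) (by omega) hQ (by rw [finrank_fintype_fun_eq_card, hn])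
  obtain ⟨f, hf, hfe⟩ := exists_omega h2 hQ (by omega)
  obtain ⟨k, hk⟩ := hpd
  have hk0 : k ≠ 0 := by
    rintro rfl
    simp at hk
  have hgk : orderOf (g ^ k) = p := by
    have h3 : orderOf g = k * p := by rw [hord, hk, mul_comm]
    rw [orderOf_pow_of_dvd hk0 (by rw [h3]; exact Dvd.intro _ rfl), h3, Nat.mul_div_cancel_left _ (Nat.pos_of_ne_zero hk0)]
  obtain ⟨x, hx⟩ := hfe _ (El.of_odd hQ ((O Q).pow_mem hg k) (by rw [hgk]; exact hp.odd_of_ne_two hp2))
  obtain ⟨y, hy⟩ := hfe _ hs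
  have hxp : orderOf x = p := by rw [← orderOf_injective f hf x, hx, hgk]
  refine hasReal_of_isConj hxp (isConj_iff.2 ⟨y, hf ?_⟩)
  rw [map_mul, map_mul, map_inv, map_inv, hx, hy, ← conj_pow, hsg, inv_pow]

omit [DecidableEq F] in
/-- cyclic Sylow subgroups -/
theorem cyc_of (Q : QuadraticForm F (ι → F)) {m p : ℕ} [hp : Fact p.Prime] (hp2 : p ≠ 2)
    (hpF : ¬ p ∣ Fintype.card F) (hn : Fintype.card ι ≤ 2 * m + 1)
    (h : ∀ i, 0 < i → i ≤ m → ¬ p ∣ Fintype.card F ^ i - 1) :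
    ∀ P : Subgroup (Cfsg.Omega F ⇑Q), IsPGroup p P → IsCyclic P := by
  have : Finite (Cfsg.isometryGroup F ⇑Q) := Subtype.finite
  rw [← Nat.card_eq_fintype_card (α := F)] at hpF h
  intro P hP
  by_contra hnc
  obtain ⟨a, b, -, -, hab, hap, hbp, ha1, v, hav, hbv⟩ := Cfsg.Agent.H501.RealGen.nonc
    ((Cfsg.Agent.H501.RowOmega.rho ⇑Q).comp (Cfsg.Omega F ⇑Q).subtype)
    ((Cfsg.Agent.H501.RowOmega.rho_injective ⇑Q).comp (Cfsg.Omega F ⇑Q).subtype_injective) hp2 hpF hP hnc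
  have hinj : Function.Injective ((Cfsg.Agent.H501.RowOmega.rho ⇑Q).comp (Cfsg.Omega F ⇑Q).subtype) :=
    (Cfsg.Agent.H501.RowOmega.rho_injective ⇑Q).comp (Cfsg.Omega F ⇑Q).subtype_injective
  have h1 := two_of_comm (F := F) (V := ι → F) hpF h (by rw [← map_mul, ← map_mul, hab])
    (by rw [← map_pow, hap, map_one]) (by rw [← map_pow, hbp, map_one])
    (fun h0 => ha1 (hinj (h0.trans (map_one _).symm))) hav hbv
  rw [finrank_fintype_fun_eq_card] at h1
  omega

omit [DecidableEq F] in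
/-- dimension of the fixed space of an element of order `p` -/
theorem real_of_dim {Q : QuadraticForm F (ι → F)} (hQ : (polarBilin Q).Nondegenerate)
    (hn : 4 < Fintype.card ι) {p : ℕ} [hp : Fact p.Prime] (hp2 : p ≠ 2) (hpF : ¬ p ∣ Fintype.card F)
    (hd : p ∣ Nat.card (Cfsg.POmega F ⇑Q))
    (h0 : ¬ p ∣ Fintype.card F ^ Fintype.card ι - 1) (h1 : ¬ p ∣ Fintype.card F ^ (Fintype.card ι - 1) - 1) :
    HasReal p (Cfsg.Omega F ⇑Q) := by
  have : Finite (Cfsg.isometryGroup F ⇑Q) := Subtype.finite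
  rw [← Nat.card_eq_fintype_card (α := F)] at hpF h0 h1
  obtain ⟨x, hx⟩ := exists_prime_orderOf_dvd_card' p (Cfsg.Agent.H501.RowOmega.dvd_omega hd)
  have hxp : x ^ p = 1 := by rw [← hx]; exact pow_orderOf_eq_one x
  have hx1 : x ≠ 1 := by
    rintro rfl
    rw [orderOf_one] at hx
    exact hp.out.one_lt.ne hx
  have hdv := dvd_of_fix (F := F) (V := ι → F) hpF (g := Cfsg.Agent.H501.RowOmega.rho ⇑Q x.1) (by
    rw [← map_pow]
    have : x.1 ^ p = 1 := congrArg Subtype.val hxp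
    rw [this, map_one])
  rw [finrank_fintype_fun_eq_card] at hdv
  have hdim : 2 ≤ finrank F (LinearMap.ker (Cfsg.Agent.H501.RowOmega.rho ⇑Q x.1 - 1)) := by
    by_contra hcon
    have h3 : finrank F (LinearMap.ker (Cfsg.Agent.H501.RowOmega.rho ⇑Q x.1 - 1)) = 0 ∨
      finrank F (LinearMap.ker (Cfsg.Agent.H501.RowOmega.rho ⇑Q x.1 - 1)) = 1 := by omega
    rcases h3 with h3 | h3 <;> rw [h3] at hdv
    · exact h0 hdv
    · exact h1 hdv
  have hpos : 0 < finrank F (LinearMap.ker (Cfsg.Agent.H501.RowOmega.rho ⇑Q x.1 - 1)) := by omega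
  rw [Module.finrank_pos_iff] at hpos
  obtain ⟨⟨v, hv⟩, hv0⟩ := exists_ne (0 : LinearMap.ker (Cfsg.Agent.H501.RowOmega.rho ⇑Q x.1 - 1))
  have hv' : Cfsg.Agent.H501.RowOmega.mt x.1 *ᵥ v = v := by
    rw [LinearMap.mem_ker, LinearMap.sub_apply, sub_eq_zero, Cfsg.Agent.H501.RowOmega.rho_apply] at hv
    exact hv
  exact Cfsg.Agent.H501.RowOmega.real_of_fix Q hQ hn hp.out hp2 hpF hxp hx1 (fun h => hv0 (Subtype.ext h)) hv'
    (fun _ => hdim)

omit [DecidableEq F] in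
/-- the conclusion -/
theorem evAt_of (Q : QuadraticForm F (ι → F)) {m p : ℕ} [hp : Fact p.Prime] (hp2 : p ≠ 2)
    (hpF : ¬ p ∣ Fintype.card F) (hn : Fintype.card ι ≤ 2 * m + 1)
    (h : ∀ i, 0 < i → i ≤ m → ¬ p ∣ Fintype.card F ^ i - 1) (hr : HasReal p (Cfsg.Omega F ⇑Q)) :
    Cfsg.Agent.H892.EP.EvAt p (Cfsg.POmega F ⇑Q) := by
  have : Finite (Cfsg.isometryGroup F ⇑Q) := Subtype.finite
  have hc := cyc_of Q hp2 hpF hn h
  have hr' : HasReal p (Cfsg.POmega F ⇑Q) := Cfsg.Agent.H501.RealGen.HasReal.quot hp.out hp2 _ le_rfl hr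
  obtain ⟨z, hz, hzz⟩ := hr'.isConj
  intro M hM
  exact Cfsg.Agent.H809.Evn.exists_even_of_real_cyclic hM hp2 (fun P => Cfsg.Agent.H469.isCyclic_of_surj
    (QuotientGroup.mk' (Subgroup.center (Cfsg.Omega F ⇑Q))) (QuotientGroup.mk'_surjective _) hc P P.isPGroup') z
    ⟨1, by rw [hz, pow_one]⟩ (fun h => hp.out.one_lt.ne' (by rw [← hz, h, orderOf_one])) hzz

end Orth

/-! ### The rows -/

section Rows

open Cfsg Cfsg.Agent.LieClassical.OrthForms Cfsg.Agent.LieClassical.OrthCore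

variable {F : Type} [Field F] [Fintype F] {r : ℕ} [Fact r.Prime] [CharP F r] {p : ℕ} [Fact p.Prime]

omit [Fintype F] in
theorem two_ne (hr : r ≠ 2) : (2 : F) ≠ 0 := by
  intro h0
  have h3 : ((2 : ℕ) : F) = 0 := by exact_mod_cast h0
  rw [CharP.cast_eq_zero_iff F r, Nat.prime_dvd_prime_iff_eq Fact.out Nat.prime_two] at h3
  exact hr h3

theorem not_dvd (hpr : p ≠ r) : ¬ p ∣ Fintype.card F := by
  obtain ⟨k, -, hk⟩ := FiniteField.card F r
  rw [hk]
  intro h
  exact hpr ((Nat.prime_dvd_prime_iff_eq Fact.out Fact.out).1 ((Fact.out : p.Prime).dvd_of_dvd_pow h))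

theorem odd_card' (hr : r ≠ 2) : Odd (Fintype.card F) := by
  obtain ⟨k, -, hk⟩ := FiniteField.card F r
  rw [hk]
  exact ((Fact.out : r.Prime).odd_of_ne_two hr).pow

theorem rest_oodd (hr : r ≠ 2) (hp2 : p ≠ 2) (hpr : p ≠ r) {m : ℕ} (hm : 3 ≤ m)
    (hd : p ∣ Nat.card (POmega F (quadFormOdd m F)))
    (h : ∀ i, 0 < i → i ≤ m → ¬ p ∣ Fintype.card F ^ i - 1) :
    Cfsg.Agent.H892.EP.EvAt p (POmega F (quadFormOdd m F)) := by
  classical
  have hp : p.Prime := Fact.out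
  have h2 : (2 : F) ≠ 0 := two_ne hr
  have hpF : ¬ p ∣ Fintype.card F := not_dvd hpr
  have hq : 0 < Fintype.card F := Fintype.card_pos
  have hcard : Fintype.card (Unit ⊕ (Fin m ⊕ Fin m)) = 2 * m + 1 := by simp; ring
  have hQ := Cfsg.Agent.H181.FormNondeg.odd_nondegenerate m F h2
  -- `p ∣ q ^ (2 i) - 1`
  obtain ⟨i, hi0, him, hi⟩ : ∃ i, 0 < i ∧ i ≤ m ∧ p ∣ Fintype.card F ^ (2 * i) - 1 := by
    have h3 := Cfsg.Agent.S0292.result (F := F) rfl (odd_card' hr) m hm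
    have h4 : p ∣ Fintype.card F ^ (m ^ 2) * ∏ i ∈ Finset.range m, (Fintype.card F ^ (2 * (i + 1)) - 1) := by
      rw [← h3]
      exact hd.mul_left 2
    rcases (Nat.Prime.dvd_mul hp).1 h4 with h5 | h5
    · exact absurd (hp.dvd_of_dvd_pow h5) hpF
    · obtain ⟨j, hj, hj'⟩ := (Prime.dvd_finsetProd_iff hp.prime _).1 h5
      exact ⟨j + 1, by omega, by have := Finset.mem_range.1 hj; omega, hj'⟩
  rw [← coe_oddForm] at hd ⊢
  refine evAt_of (oddForm m F) (m := m) hp2 hpF (by omega) h ?_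
  by_cases hmm : p ∣ Fintype.card F ^ (2 * m) - 1
  · have h5 : Fintype.card F ^ (2 * m) - 1 = (Fintype.card F ^ m + 1) * (Fintype.card F ^ m - 1) := by
      have := Nat.sq_sub_sq (Fintype.card F ^ m) 1
      rw [← pow_mul, one_pow, mul_comm m 2] at this
      exact this
    rw [h5] at hmm
    have h6 : p ∣ Fintype.card F ^ m + 1 := ((Nat.Prime.dvd_mul hp).1 hmm).resolve_right (h m (by omega) le_rfl)
    exact real_of_model h2 hQ.1 (d := m) (by omega) hcard hp hp2 h6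
  · refine real_of_dim hQ (by omega) hp2 hpF hd ?_ ?_
    · rw [hcard]
      intro h5
      obtain ⟨h6, h7⟩ := not_even_of h (by omega) h5 hi
      have h8 : Nat.gcd (2 * m + 1) (2 * i) = Nat.gcd (2 * m + 1) i := by
        apply Nat.Coprime.gcd_mul_left_cancel_right
        rw [Nat.coprime_two_left]
        exact ⟨m, rfl⟩
      rw [h8] at h6
      have := Nat.gcd_le_right (2 * m + 1) hi0
      omega
    · rw [hcard, Nat.add_sub_cancel]
      exact hmm

theorem rest_oplus (hr : r ≠ 2) (hp2 : p ≠ 2) (hpr : p ≠ r) {m : ℕ} (hm : 4 ≤ m)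
    (hd : p ∣ Nat.card (POmega F (quadFormPlus m F)))
    (h : ∀ i, 0 < i → i ≤ m → ¬ p ∣ Fintype.card F ^ i - 1) :
    Cfsg.Agent.H892.EP.EvAt p (POmega F (quadFormPlus m F)) := by
  classical
  have hp : p.Prime := Fact.out
  have h2 : (2 : F) ≠ 0 := two_ne hr
  have hpF : ¬ p ∣ Fintype.card F := not_dvd hpr
  have hq : 0 < Fintype.card F := Fintype.card_pos
  have hcard : Fintype.card (Fin m ⊕ Fin m) = 2 * m := by simp; ring
  have hQ := Cfsg.Agent.H181.FormNondeg.plus_nondegenerate m F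
  -- `p ∣ q ^ (2 i) - 1`
  obtain ⟨i, hi0, him, hi⟩ : ∃ i, 0 < i ∧ i < m ∧ p ∣ Fintype.card F ^ (2 * i) - 1 := by
    have h3 := Cfsg.Agent.S0293.result (F := F) rfl m hm
    have h4 := hd.mul_left (Nat.gcd 4 (Fintype.card F ^ m - 1))
    rw [h3] at h4
    rcases (Nat.Prime.dvd_mul hp).1 h4 with h5 | h5
    · rcases (Nat.Prime.dvd_mul hp).1 h5 with h6 | h6
      · exact absurd (hp.dvd_of_dvd_pow h6) hpF
      · exact absurd h6 (h m (by omega) le_rfl)
    · obtain ⟨j, hj, hj'⟩ := (Prime.dvd_finsetProd_iff hp.prime _).1 h5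
      exact ⟨j + 1, by omega, by have := Finset.mem_range.1 hj; omega, hj'⟩
  rw [← coe_plusForm] at hd ⊢
  refine evAt_of (plusForm m F) (m := m) hp2 hpF (by omega) h ?_
  refine real_of_dim hQ (by omega) hp2 hpF hd ?_ ?_
  · rw [hcard]
    intro h5
    obtain ⟨h6, h7⟩ := not_even_of h (by omega) h5 hi
    -- `gcd (2m) (2i) = 2 gcd m i ≤ m`
    have h8 : Nat.gcd (2 * m) (2 * i) = 2 * Nat.gcd m i := Nat.gcd_mul_left 2 m i
    rw [h8] at h6
    obtain ⟨c, hc⟩ := Nat.gcd_dvd_left m i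
    have h9 := Nat.gcd_le_right m hi0
    have h10 : 2 ≤ c := by
      by_contra hcon
      have : c = 0 ∨ c = 1 := by omega
      rcases this with rfl | rfl
      · omega
      · omega
    have h11 : Nat.gcd m i * 2 ≤ Nat.gcd m i * c := Nat.mul_le_mul_left _ h10
    omega
  · rw [hcard]
    intro h5
    obtain ⟨h6, h7⟩ := not_even_of h (by omega) h5 hi
    have h8 : Nat.gcd (2 * m - 1) (2 * i) = Nat.gcd (2 * m - 1) i := by
      apply Nat.Coprime.gcd_mul_left_cancel_right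
      rw [Nat.coprime_two_left]
      exact ⟨m - 1, by omega⟩
    rw [h8] at h6
    have := Nat.gcd_le_right (2 * m - 1) hi0
    omega

end Rows

end Cfsg.Agent.H170.EP
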